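import Mathlib
import Cfsg.Agent.Lib.PGroupCoprimeAction
import Cfsg.Agent.PLocal.HHBMinimal

/-!
# `[Q, z]` and `C_Q(z)` for a coprime automorphism `z` of a group of class at most two

`Q = [Q, z] C_Q(z)`, `[Q, z] = [[Q, z], z]`, and `[Q, z]` commutes with `C_Q(z)` when `Q` has class at most two and
`z` centralizes the centre of `Q`.
-/

set_option autoImplicit false

namespace Cfsg.Agent.H450.Brk

open Subgroup
open scoped commutatorElement

variable {Q : Type*} [Group Q]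

/-- `[Q, z]` -/
def brk (z : MulAut Q) : Subgroup Q := closure {w | ∃ g, w = z g * g⁻¹}

/-- the fixed points of `z` -/
def fx (z : MulAut Q) : Subgroup Q where
  carrier := {g | z g = g}
  one_mem' := map_one z
  mul_mem' := by
    intro a b ha hb
    show z (a * b) = a * b
    rw [map_mul, show z a = a from ha, show z b = b from hb]
  inv_mem' := by
    intro a ha
    show z a⁻¹ = a⁻¹
    rw [map_inv, show z a = a from ha]

theorem mem_fx {z : MulAut Q} {g : Q} : g ∈ fx z ↔ z g = g := Iff.rfl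

theorem mem_brk (z : MulAut Q) (g : Q) : z g * g⁻¹ ∈ brk z := subset_closure ⟨g, rfl⟩

theorem brk_normal (z : MulAut Q) : (brk z).Normal := by
  refine ⟨fun n hn h => ?_⟩
  induction hn using closure_induction with
  | mem n hn =>
    obtain ⟨g, rfl⟩ := hn
    have h1 : h * (z g * g⁻¹) * h⁻¹ = (z h * h⁻¹)⁻¹ * (z (h * g) * (h * g)⁻¹) := by
      rw [map_mul]; group
    rw [h1]
    exact (brk z).mul_mem ((brk z).inv_mem (mem_brk z h)) (mem_brk z (h * g))
  | one => simp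
  | mul a b _ _ ha hb =>
    have : h * (a * b) * h⁻¹ = (h * a * h⁻¹) * (h * b * h⁻¹) := by group
    rw [this]
    exact mul_mem ha hb
  | inv a _ ha =>
    have : h * a⁻¹ * h⁻¹ = (h * a * h⁻¹)⁻¹ := by group
    rw [this]
    exact inv_mem ha

theorem brk_invariant {z σ : MulAut Q} (h : Commute z σ) {g : Q} (hg : g ∈ brk z) : σ g ∈ brk z := by
  induction hg using closure_induction with
  | mem n hn =>
    obtain ⟨g, rfl⟩ := hn
    have h1 : σ (z g) = z (σ g) := by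
      have := congrArg (fun u : MulAut Q => u g) h.eq
      exact this.symm
    rw [map_mul, map_inv, h1]
    exact mem_brk z (σ g)
  | one => rw [map_one]; exact one_mem _
  | mul a b _ _ ha hb => rw [map_mul]; exact mul_mem ha hb
  | inv a _ ha => rw [map_inv]; exact inv_mem ha

theorem fx_invariant {z σ : MulAut Q} (h : Commute z σ) {g : Q} (hg : g ∈ fx z) : σ g ∈ fx z := by
  have h1 : σ (z g) = z (σ g) := by
    have := congrArg (fun u : MulAut Q => u g) h.eq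
    exact this.symm
  show z (σ g) = σ g
  rw [← h1, show z g = g from hg]

theorem exists_decomp [Finite Q] {p : ℕ} [hp : Fact p.Prime] (hQ : ¬ p ∣ Nat.card Q) (z : MulAut Q)
    (hz : z ^ p = 1) (g : Q) : ∃ a ∈ brk z, ∃ n ∈ fx z, g = a * n := by
  have hA : IsPGroup p (zpowers z) := by
    obtain ⟨k, -, hk⟩ := (Nat.dvd_prime_pow hp.out).mp
      (show orderOf z ∣ p ^ 1 by rw [pow_one]; exact orderOf_dvd_of_pow_eq_one hz)
    exact IsPGroup.of_card (n := k) (by rw [Nat.card_zpowers, hk])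
  have hN := brk_normal z
  have hst : ∀ (a : zpowers z), ∀ x : Q, g⁻¹ * x ∈ brk z → g⁻¹ * (a • x) ∈ brk z := by
    rintro ⟨a, ha⟩ x hx
    have h1 : ∀ k : ℕ, g⁻¹ * (z ^ k) x ∈ brk z := by
      intro k
      induction k with
      | zero => simpa using hx
      | succ k ih =>
        rw [pow_succ', MulAut.mul_apply]
        have h2 : g⁻¹ * z ((z ^ k) x) =
            (g⁻¹ * (z ((z ^ k) x) * ((z ^ k) x)⁻¹) * g⁻¹⁻¹) * (g⁻¹ * (z ^ k) x) := by group
        rw [h2]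
        exact mul_mem (hN.conj_mem _ (mem_brk z _) _) ih
    obtain ⟨k, rfl⟩ := mem_powers_iff_mem_zpowers.mpr ha
    exact h1 k
  obtain ⟨c, hc, hfix⟩ := Lib.PGroupCoprimeAction.exists_fixed_mem_coset (A := zpowers z) hA hQ (brk z) g hst
  have hcz : z c = c := hfix ⟨z, mem_zpowers z⟩
  refine ⟨g * c⁻¹, ?_, c, hcz, by group⟩
  have h1 : g * c⁻¹ = g * (g⁻¹ * c)⁻¹ * g⁻¹ := by group
  rw [h1]
  exact hN.conj_mem _ (inv_mem hc) g

theorem comm {z : MulAut Q} (hcl : ∀ a b c : Q, ⁅a, b⁆ * c = c * ⁅a, b⁆) (hZ : ∀ c ∈ center Q, z c = c)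
    {a : Q} (ha : a ∈ brk z) {n : Q} (hn : n ∈ fx z) : a * n = n * a := by
  have hn' : z n = n := hn
  induction ha using closure_induction with
  | mem w hw =>
    obtain ⟨g, rfl⟩ := hw
    have hc : ⁅g, n⁆ ∈ center Q := mem_center_iff.mpr fun x => (hcl g n x).symm
    have h1 : z ⁅g, n⁆ = ⁅g, n⁆ := hZ _ hc
    rw [map_commutatorElement, hn'] at h1
    -- `[z g, n] = [g, n]`
    have h2 : z g * n = ⁅g, n⁆ * n * z g := by
      rw [← h1, commutatorElement_def]; group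
    have h3 : g⁻¹ * n = n * g⁻¹ * ⁅g, n⁆⁻¹ := by
      have h4 : ⁅g, n⁆⁻¹ ∈ center Q := inv_mem hc
      have h5 := mem_center_iff.mp h4 (n * g⁻¹)
      have h6 : ⁅g, n⁆⁻¹ = g⁻¹ * ⁅g, n⁆⁻¹ * g := by
        rw [mem_center_iff.mp h4 g⁻¹]; group
      rw [h5, h6, commutatorElement_def]; group
    have h6 := mem_center_iff.mp hc
    calc z g * g⁻¹ * n = z g * (g⁻¹ * n) := by group
      _ = z g * (n * g⁻¹ * ⁅g, n⁆⁻¹) := by rw [h3]
      _ = (z g * n) * g⁻¹ * ⁅g, n⁆⁻¹ := by group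
      _ = (⁅g, n⁆ * n * z g) * g⁻¹ * ⁅g, n⁆⁻¹ := by rw [h2]
      _ = ⁅g, n⁆ * (n * (z g * g⁻¹)) * ⁅g, n⁆⁻¹ := by group
      _ = (n * (z g * g⁻¹)) * ⁅g, n⁆ * ⁅g, n⁆⁻¹ := by rw [h6]
      _ = n * (z g * g⁻¹) := by group
  | one => simp
  | mul a b _ _ ha hb => rw [mul_assoc, hb, ← mul_assoc, ha, mul_assoc]
  | inv a _ ha =>
    have : a⁻¹ * (a * n) * a⁻¹ = a⁻¹ * (n * a) * a⁻¹ := by rw [ha]
    have h1 : a⁻¹ * (a * n) * a⁻¹ = n * a⁻¹ := by group
    have h2 : a⁻¹ * (n * a) * a⁻¹ = a⁻¹ * n := by group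
    rw [h1, h2] at this
    exact this.symm

theorem brk_gen [Finite Q] {p : ℕ} [hp : Fact p.Prime] (hQ : ¬ p ∣ Nat.card Q) (z : MulAut Q)
    (hz : z ^ p = 1) : closure {w | ∃ a ∈ brk z, w = z a * a⁻¹} = brk z := by
  have h1 : {w | ∃ a ∈ brk z, w = z a * a⁻¹} = {w | ∃ g, w = z g * g⁻¹} := by
    ext w
    constructor
    · rintro ⟨a, -, rfl⟩
      exact ⟨a, rfl⟩
    · rintro ⟨g, rfl⟩
      obtain ⟨a, ha, n, hn, rfl⟩ := exists_decomp hQ z hz g
      refine ⟨a, ha, ?_⟩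
      rw [map_mul, show z n = n from hn]
      group
  rw [h1]
  rfl

/-- `C_M(z) ≤ Z(Q)` for `M = [Q, z]` -/
theorem mem_center_of_mem [Finite Q] {p : ℕ} [hp : Fact p.Prime] (hQ : ¬ p ∣ Nat.card Q) {z : MulAut Q}
    (hz : z ^ p = 1) (hcl : ∀ a b c : Q, ⁅a, b⁆ * c = c * ⁅a, b⁆) (hZ : ∀ c ∈ center Q, z c = c)
    {a : Q} (ha : a ∈ brk z) (hfix : ∀ b ∈ brk z, b * a = a * b) : a ∈ center Q := by
  rw [mem_center_iff]
  intro g
  obtain ⟨b, hb, n, hn, rfl⟩ := exists_decomp hQ z hz g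
  rw [mul_assoc, ← comm hcl hZ ha hn, ← mul_assoc, hfix b hb, mul_assoc]

end Cfsg.Agent.H450.Brk
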